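import Mathlib.Analysis.MeanInequalities
import Cfsg.Agent.Characters.GaloisBasic
import Cfsg.Agent.OddOrderCharacters.VChar
set_option linter.all false

/-!
# Galois action on generalized characters and the arithmetic-geometric mean bound

`card_le_sum_sq`: if finitely many generalized characters have no common zero on a set `X` that is
closed under powers prime to the group order, then `|X| ≤ ∑_{x ∈ X} ∑_i |χ_i x|²`.
-/

set_option autoImplicit false

open scoped ComplexConjugate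
open Cfsg Cfsg.Agent.Characters.Core Cfsg.Agent.Characters.GaloisBasic
open Cfsg.Agent.OddOrderCharacters.VChar

namespace Cfsg.Agent.OddOrderCharacters.PF13.SumBound

universe u

variable {G : Type u} [Group G]

/-- Field automorphisms act on the values of generalized characters by power maps. -/
theorem gen_map_apply (σ : ℂ →+* ℂ) {m n : ℕ} (hσ : ∀ z : ℂ, z ^ n = 1 → σ z = z ^ m)
    {χ : G → ℂ} (hχ : IsGeneralizedCharacter G χ) {g : G} (hn : n ≠ 0) (hg : g ^ n = 1) :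
    σ (χ g) = χ (g ^ m) := by
  obtain ⟨α, β, hα, hβ, rfl⟩ := hχ
  rw [Pi.sub_apply, Pi.sub_apply, map_sub, map_apply σ hσ hα hn hg, map_apply σ hσ hβ hn hg]

/-- The values of a generalized character are algebraic integers. -/
theorem gen_isIntegral [Finite G] {χ : G → ℂ} (hχ : IsGeneralizedCharacter G χ) (g : G) :
    IsIntegral ℤ (χ g) := by
  obtain ⟨α, β, hα, hβ, rfl⟩ := hχ
  exact (isIntegral_apply hα g).sub (isIntegral_apply hβ g)

theorem gen_exists_pow [Finite G] (σ : ℂ ≃+* ℂ) :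
    ∃ m : ℕ, m.Coprime (Nat.card G) ∧
      ∀ (χ : G → ℂ), IsGeneralizedCharacter G χ → ∀ g : G, σ (χ g) = χ (g ^ m) := by
  obtain ⟨m, hm, h⟩ := exists_pow_of_ringEquiv (G := G) σ
  refine ⟨m, hm, ?_⟩
  rintro χ ⟨α, β, hα, hβ, rfl⟩ g
  rw [Pi.sub_apply, Pi.sub_apply, map_sub, h α hα, h β hβ]

theorem gen_exists_ringEquiv [Finite G] {m : ℕ} (hm : m.Coprime (Nat.card G)) :
    ∃ σ : ℂ ≃+* ℂ, ∀ (χ : G → ℂ), IsGeneralizedCharacter G χ → ∀ g : G, σ (χ g) = χ (g ^ m) := by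
  obtain ⟨σ, h⟩ := exists_ringEquiv_of_coprime (G := G) hm
  refine ⟨σ, ?_⟩
  rintro χ ⟨α, β, hα, hβ, rfl⟩ g
  rw [Pi.sub_apply, Pi.sub_apply, map_sub, h α hα, h β hβ]

/-- The power map by an exponent prime to the group order preserves sums over stable sets. -/
theorem sum_pow_eq [Finite G] {M : Type*} [AddCommMonoid M] (X : Finset G) {m : ℕ}
    (hm : m.Coprime (Nat.card G)) (hX : ∀ g ∈ X, g ^ m ∈ X) (f : G → M) :
    ∑ g ∈ X, f (g ^ m) = ∑ g ∈ X, f g := by
  classical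
  have hinj : Function.Injective (fun g : G => g ^ m) := by
    have := (powCoprime (G := G) (n := m) hm.symm).injective
    intro a b hab
    exact this hab
  have himg : X.image (fun g : G => g ^ m) = X := by
    apply Finset.eq_of_subset_of_card_le
    · intro g hg
      obtain ⟨a, ha, rfl⟩ := Finset.mem_image.1 hg
      exact hX a ha
    · rw [Finset.card_image_of_injective _ hinj]
  conv_rhs => rw [← himg]
  rw [Finset.sum_image (fun a _ b _ h => hinj h)]

/-- The product over the units modulo `|G|` of the values at the powers of `g` of a positive function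
that is Galois equivariant is at least one. -/
theorem one_le_prod [Finite G] (f : G → ℝ) (hint : ∀ g, IsIntegral ℤ ((f g : ℝ) : ℂ))
    (hgal : ∀ σ : ℂ ≃+* ℂ, ∃ m : ℕ, m.Coprime (Nat.card G) ∧
      ∀ g, σ ((f g : ℝ) : ℂ) = ((f (g ^ m) : ℝ) : ℂ)) (g : G)
    (hpos : ∀ m : ℕ, m.Coprime (Nat.card G) → 0 < f (g ^ m)) :
    haveI : NeZero (Nat.card G) := ⟨Nat.card_pos.ne'⟩
    1 ≤ ∏ u : (ZMod (Nat.card G))ˣ, f (g ^ (u : ZMod (Nat.card G)).val) := by
  have hne : NeZero (Nat.card G) := ⟨Nat.card_pos.ne'⟩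
  set n := Nat.card G with hn
  have hpow : ∀ (a b : ℕ), (a : ZMod n) = (b : ZMod n) → g ^ a = g ^ b := by
    intro a b hab
    rw [ZMod.natCast_eq_natCast_iff] at hab
    rw [pow_eq_pow_iff_modEq]
    exact hab.of_dvd (orderOf_dvd_natCard g)
  set P : ℝ := ∏ u : (ZMod n)ˣ, f (g ^ (u : ZMod n).val) with hP
  have hPpos : 0 < P := by
    apply Finset.prod_pos
    intro u _
    exact hpos _ (ZMod.val_coe_unit_coprime u)
  have hPint : IsIntegral ℤ ((P : ℝ) : ℂ) := by
    rw [hP, Complex.ofReal_prod]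
    exact IsIntegral.prod _ fun u _ => hint _
  have hfix : ∀ σ : ℂ ≃+* ℂ, σ ((P : ℝ) : ℂ) = ((P : ℝ) : ℂ) := by
    intro σ
    obtain ⟨m, hm, hσ⟩ := hgal σ
    rw [hP, Complex.ofReal_prod, map_prod]
    simp only [hσ]
    refine Fintype.prod_equiv (Equiv.mulLeft (ZMod.unitOfCoprime m hm)) _ _ fun u => ?_
    congr 2
    rw [← pow_mul]
    apply hpow
    simp only [Nat.cast_mul, ZMod.natCast_val, ZMod.cast_id', id_eq, Equiv.coe_mulLeft,
      Units.val_mul, ZMod.coe_unitOfCoprime]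
    ring
  obtain ⟨k, hk⟩ := exists_int_of_isIntegral hPint
    (exists_rat_of_forall_ringEquiv hPint.tower_top hfix)
  have hk' : P = k := by exact_mod_cast hk
  rw [hk'] at hPpos ⊢
  have : (0 : ℤ) < k := by exact_mod_cast hPpos
  exact_mod_cast this

/-- Same for the arithmetic mean. -/
theorem card_le_sum_of_gal [Finite G] (f : G → ℝ) (hint : ∀ g, IsIntegral ℤ ((f g : ℝ) : ℂ))
    (hgal : ∀ σ : ℂ ≃+* ℂ, ∃ m : ℕ, m.Coprime (Nat.card G) ∧
      ∀ g, σ ((f g : ℝ) : ℂ) = ((f (g ^ m) : ℝ) : ℂ)) (X : Finset G)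
    (hX : ∀ g ∈ X, ∀ m : ℕ, m.Coprime (Nat.card G) → g ^ m ∈ X)
    (hpos : ∀ g ∈ X, 0 < f g) :
    (X.card : ℝ) ≤ ∑ g ∈ X, f g := by
  have hne : NeZero (Nat.card G) := ⟨Nat.card_pos.ne'⟩
  set n := Nat.card G with hn
  set N : ℕ := Fintype.card (ZMod n)ˣ with hN
  have hNpos : (0 : ℝ) < N := by exact_mod_cast Fintype.card_pos
  have key : ∀ g ∈ X, (N : ℝ) ≤ ∑ u : (ZMod n)ˣ, f (g ^ (u : ZMod n).val) := by
    intro g hg
    have h1 := one_le_prod f hint hgal g (fun m hm => hpos _ (hX g hg m hm))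
    have h2 := Real.geom_mean_le_arith_mean_weighted (Finset.univ : Finset (ZMod n)ˣ)
      (fun _ => (N : ℝ)⁻¹) (fun u => f (g ^ (u : ZMod n).val))
      (fun _ _ => inv_nonneg.2 hNpos.le)
      (by rw [Finset.sum_const, Finset.card_univ, nsmul_eq_mul, ← hN,
        mul_inv_cancel₀ hNpos.ne'])
      (fun u _ => (hpos _ (hX g hg _ (ZMod.val_coe_unit_coprime u))).le)
    rw [Real.finsetProd_rpow _ _
      (fun u _ => (hpos _ (hX g hg _ (ZMod.val_coe_unit_coprime u))).le), ← Finset.mul_sum] at h2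
    have h3 : (1 : ℝ) ≤ (∏ u : (ZMod n)ˣ, f (g ^ (u : ZMod n).val)) ^ (N : ℝ)⁻¹ :=
      Real.one_le_rpow h1 (inv_nonneg.2 hNpos.le)
    have h4 := h3.trans h2
    rw [← div_eq_inv_mul, le_div_iff₀ hNpos, one_mul] at h4
    exact h4
  have h5 : ∑ g ∈ X, (N : ℝ) ≤ ∑ g ∈ X, ∑ u : (ZMod n)ˣ, f (g ^ (u : ZMod n).val) :=
    Finset.sum_le_sum key
  rw [Finset.sum_comm] at h5
  have h6 : ∀ u : (ZMod n)ˣ, ∑ g ∈ X, f (g ^ (u : ZMod n).val) = ∑ g ∈ X, f g := by
    intro u
    exact sum_pow_eq X (ZMod.val_coe_unit_coprime u)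
      (fun g hg => hX g hg _ (ZMod.val_coe_unit_coprime u)) f
  simp only [h6] at h5
  rw [Finset.sum_const, Finset.sum_const, nsmul_eq_mul, nsmul_eq_mul, Finset.card_univ, ← hN,
    mul_comm] at h5
  exact le_of_mul_le_mul_left h5 hNpos

/-- **Arithmetic-geometric mean bound.** If finitely many generalized characters have no common zero
on a set `X` closed under powers prime to the group order, then the sum over `X` of the squares of
their absolute values is at least `|X|`. -/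
theorem card_le_sum_sq [Finite G] {ι : Type*} (s : Finset ι) (χ : ι → G → ℂ)
    (hχ : ∀ i ∈ s, IsGeneralizedCharacter G (χ i)) (X : Finset G)
    (hX : ∀ g ∈ X, ∀ m : ℕ, m.Coprime (Nat.card G) → g ^ m ∈ X)
    (h0 : ∀ g ∈ X, ∃ i ∈ s, χ i g ≠ 0) :
    (X.card : ℝ) ≤ ∑ g ∈ X, ∑ i ∈ s, ‖χ i g‖ ^ 2 := by
  have hcast : ∀ g : G, ((∑ i ∈ s, ‖χ i g‖ ^ 2 : ℝ) : ℂ) = ∑ i ∈ s, χ i g * χ i g⁻¹ := by
    intro g
    rw [Complex.ofReal_sum]
    refine Finset.sum_congr rfl fun i hi => ?_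
    rw [gen_apply_inv (hχ i hi), Complex.mul_conj, Complex.normSq_eq_norm_sq]
  refine card_le_sum_of_gal (fun g => ∑ i ∈ s, ‖χ i g‖ ^ 2) ?_ ?_ X hX ?_
  · intro g
    rw [hcast]
    exact IsIntegral.sum _ fun i hi =>
      (gen_isIntegral (hχ i hi) g).mul (gen_isIntegral (hχ i hi) g⁻¹)
  · intro σ
    obtain ⟨m, hm, h⟩ := gen_exists_pow (G := G) σ
    refine ⟨m, hm, fun g => ?_⟩
    rw [hcast, hcast, map_sum]
    refine Finset.sum_congr rfl fun i hi => ?_
    rw [map_mul, h _ (hχ i hi), h _ (hχ i hi), inv_pow]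
  · intro g hg
    obtain ⟨i, hi, hne⟩ := h0 g hg
    refine lt_of_lt_of_le ?_ (Finset.single_le_sum (f := fun i => ‖χ i g‖ ^ 2)
      (fun j _ => by positivity) hi)
    have : 0 < ‖χ i g‖ := norm_pos_iff.2 hne
    positivity

end Cfsg.Agent.OddOrderCharacters.PF13.SumBound
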